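import Mathlib

set_option autoImplicit false
universe u v

namespace Groth.Agent.TorusUnits

variable {A : Type u} [CommRing A] {M : Type v} [AddCommMonoid M]

/-- Units of a group algebra of a two-unique-sums monoid over a domain are monomials. -/
theorem exists_eq_single_of_isUnit [IsDomain A] [TwoUniqueSums M] {f : AddMonoidAlgebra A M}
    (hf : IsUnit f) : ∃ (e : M) (a : A), IsUnit a ∧ f = AddMonoidAlgebra.single e a := by
  classical
  obtain ⟨g, hfg⟩ := hf.exists_right_inv
  have hc : ∀ a₀ b₀, UniqueAdd f.coeff.support g.coeff.support a₀ b₀ →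
      (f * g).coeff (a₀ + b₀) = f.coeff a₀ * g.coeff b₀ := fun a₀ b₀ h =>
    AddMonoidAlgebra.coeff_mul_add_of_uniqueAdd h
  have hne : f ≠ 0 ∧ g ≠ 0 := by
    constructor <;> rintro rfl <;> simp at hfg
  have hcard : f.coeff.support.card * g.coeff.support.card ≤ 1 := by
    by_contra hlt
    obtain ⟨p, hp, q, hq, hpq, hp', hq'⟩ :=
      TwoUniqueSums.uniqueAdd_of_one_lt_card (not_le.1 hlt)
    rw [Finset.mem_product, Finsupp.mem_support_iff, Finsupp.mem_support_iff] at hp hq
    have e1 := hc _ _ hp'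
    have e2 := hc _ _ hq'
    rw [hfg, AddMonoidAlgebra.one_def, AddMonoidAlgebra.coeff_single, Finsupp.single_apply] at e1 e2
    split_ifs at e1 with h1
    · split_ifs at e2 with h2
      · refine hpq ?_
        have := hp' (Finsupp.mem_support_iff.2 hq.1) (Finsupp.mem_support_iff.2 hq.2) (h2.symm.trans h1)
        exact Prod.ext this.1.symm this.2.symm
      · exact mul_ne_zero hq.1 hq.2 e2.symm
    · exact mul_ne_zero hp.1 hp.2 e1.symm
  have hf0 : f.coeff ≠ 0 := fun h => hne.1 (AddMonoidAlgebra.ext h)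
  have hg0 : g.coeff ≠ 0 := fun h => hne.2 (AddMonoidAlgebra.ext h)
  have hfpos : 0 < f.coeff.support.card := Finset.card_pos.2 (Finsupp.support_nonempty_iff.2 hf0)
  have hgpos : 0 < g.coeff.support.card := Finset.card_pos.2 (Finsupp.support_nonempty_iff.2 hg0)
  have hf1 : f.coeff.support.card = 1 := by nlinarith
  have hg1 : g.coeff.support.card = 1 := by nlinarith
  obtain ⟨e, a, -, ha⟩ := Finsupp.card_support_eq_one'.1 hf1
  obtain ⟨e', a', -, ha'⟩ := Finsupp.card_support_eq_one'.1 hg1
  have hfs : f = AddMonoidAlgebra.single e a := AddMonoidAlgebra.ext (by rw [ha]; rfl)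
  have hgs : g = AddMonoidAlgebra.single e' a' := AddMonoidAlgebra.ext (by rw [ha']; rfl)
  refine ⟨e, a, ?_, hfs⟩
  rw [hfs, hgs, AddMonoidAlgebra.single_mul_single] at hfg
  have h := congrArg (fun p => AddMonoidAlgebra.coeff p 0) hfg
  simp only [AddMonoidAlgebra.one_def, AddMonoidAlgebra.coeff_single, Finsupp.single_apply,
    if_true] at h
  split_ifs at h with h1
  · exact IsUnit.of_mul_eq_one _ h
  · exact absurd h zero_ne_one

end Groth.Agent.TorusUnits
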