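import Mathlib
import Groth.Agent.TorusUnits.Algebra

set_option autoImplicit false
universe u
open CategoryTheory CategoryTheory.Limits AlgebraicGeometry Opposite

namespace Groth.Agent.TorusUnits

variable (M : Type) [AddCommMonoid M]

/-- coordinate ring of the torus -/
noncomputable abbrev Lring : CommRingCat.{u} := CommRingCat.of (ULift.{u} (AddMonoidAlgebra ℤ M))

/-- the torus -/
noncomputable abbrev T : Scheme.{u} := Spec (Lring.{u} M)

variable (X : Scheme.{u})

/-- the monomial as a global section of the torus -/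
noncomputable def mon (m : M) : Γ(T.{u} M, ⊤) :=
  (Scheme.ΓSpecIso (Lring M)).inv (ULift.up (AddMonoidAlgebra.single m 1))

/-- the monomials -/
noncomputable def monHom : Multiplicative M →* Γ(T.{u} M, ⊤) where
  toFun m := mon M m.toAdd
  map_one' := by
    show mon M 0 = 1
    rw [mon, show (ULift.up (AddMonoidAlgebra.single (0 : M) (1 : ℤ)) : ULift.{u} (AddMonoidAlgebra ℤ M)) = 1 from rfl]
    exact map_one (Scheme.ΓSpecIso (Lring.{u} M)).inv.hom
  map_mul' a b := by
    show mon M (a.toAdd + b.toAdd) = mon M a.toAdd * mon M b.toAdd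
    unfold mon
    rw [show (ULift.up (AddMonoidAlgebra.single (a.toAdd + b.toAdd) (1 : ℤ)) : ULift.{u} (AddMonoidAlgebra ℤ M)) =
      ULift.up (AddMonoidAlgebra.single a.toAdd 1) * ULift.up (AddMonoidAlgebra.single b.toAdd 1) from by
        ext1; simp [AddMonoidAlgebra.single_mul_single]]
    exact map_mul (Scheme.ΓSpecIso (Lring.{u} M)).inv.hom _ _

/-- the preimage of an open of `X` in the product -/
noncomputable abbrev W (U : X.Opens) : (X ⨯ T.{u} M).Opens := (prod.fst : X ⨯ T.{u} M ⟶ X) ⁻¹ᵁ U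

/-- pullback of functions on `X` -/
noncomputable abbrev resX (U : X.Opens) : Γ(X, U) ⟶ Γ(X ⨯ T.{u} M, W M X U) :=
  (prod.fst : X ⨯ T.{u} M ⟶ X).appLE U (W M X U) le_rfl

/-- pullback of functions on the torus -/
noncomputable abbrev resT (U : X.Opens) : Γ(T.{u} M, ⊤) ⟶ Γ(X ⨯ T.{u} M, W M X U) :=
  (prod.snd : X ⨯ T.{u} M ⟶ T.{u} M).appLE ⊤ (W M X U) le_top

/-- comparison map -/
noncomputable def Φ (U : X.Opens) : AddMonoidAlgebra Γ(X, U) M →+* Γ(X ⨯ T.{u} M, W M X U) :=
  AddMonoidAlgebra.liftNCRingHom (resX M X U).hom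
    ((resT M X U).hom.toMonoidHom.comp (monHom.{u} M)) (fun _ _ => Commute.all _ _)

theorem Φ_single (U : X.Opens) (m : M) (a : Γ(X, U)) :
    Φ M X U (AddMonoidAlgebra.single m a) = resX M X U a * resT M X U (mon M m) :=
  AddMonoidAlgebra.liftNC_single _ _ _ _

theorem Φ_injective {U : X.Opens} (hU : IsAffineOpen U) : Function.Injective (Φ M X U) ∧
    Function.Surjective (Φ M X U) := by
  classical
  let hT := specULiftZIsTerminal.{u}
  have H : IsPullback (prod.fst : X ⨯ T.{u} M ⟶ X) prod.snd (hT.from X) (hT.from (T.{u} M)) :=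
    IsPullback.of_is_product' (prodIsProd X (T.{u} M)) hT
  have hiso := isIso_pushoutSection_of_isAffineOpen H (US := ⊤) (UT := ⊤) (UX := U) (UY := W M X U)
    le_top le_top (by simp) (isAffineOpen_top _) (isAffineOpen_top _) hU
  have hpo := (isIso_pushoutSection_iff H (US := ⊤) (UT := ⊤) (UX := U) (UY := W M X U)
    le_top le_top (by simp)).1 hiso
  let ψT : Γ(T.{u} M, ⊤) →+* AddMonoidAlgebra Γ(X, U) M :=
    ((AddMonoidAlgebra.mapRingHom M (Int.castRingHom Γ(X, U))).comp
      (ULift.ringEquiv (R := AddMonoidAlgebra ℤ M)).toRingHom).comp (Scheme.ΓSpecIso (Lring.{u} M)).hom.hom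
  have hw : (hT.from X).appLE ⊤ U (by simp) ≫ CommRingCat.ofHom AddMonoidAlgebra.singleZeroRingHom =
      (hT.from (T.{u} M)).appLE ⊤ ⊤ le_top ≫ CommRingCat.ofHom ψT := by
      rw [← cancel_epi (Scheme.ΓSpecIso (CommRingCat.of (ULift.{u} ℤ))).inv]
      ext1
      refine (RingHom.cancel_right (f := (ULift.ringEquiv.{0, u} (R := ℤ)).symm.toRingHom)
        (ULift.ringEquiv (R := ℤ)).symm.surjective).1 ?_
      exact RingHom.ext_int _ _
  let Ψ : Γ(X ⨯ T.{u} M, W M X U) ⟶ CommRingCat.of (AddMonoidAlgebra Γ(X, U) M) :=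
    hpo.desc (CommRingCat.ofHom AddMonoidAlgebra.singleZeroRingHom) (CommRingCat.ofHom ψT) hw
  have h1 : ∀ a, Ψ (resX M X U a) = AddMonoidAlgebra.single 0 a := fun a => by
    have := congrArg (fun φ => φ.hom a) (hpo.inl_desc (CommRingCat.ofHom AddMonoidAlgebra.singleZeroRingHom)
      (CommRingCat.ofHom ψT) hw)
    exact this
  have h2 : ∀ b, Ψ (resT M X U b) = ψT b := fun b => by
    have := congrArg (fun φ => φ.hom b) (hpo.inr_desc (CommRingCat.ofHom AddMonoidAlgebra.singleZeroRingHom)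
      (CommRingCat.ofHom ψT) hw)
    exact this
  have hmon : ∀ m, ψT (mon M m) = AddMonoidAlgebra.single m 1 := fun m => by
    simp [ψT, mon, ULift.ringEquiv]
  have hΨΦ : Ψ.hom.comp (Φ M X U) = RingHom.id _ := by
    refine AddMonoidAlgebra.ringHom_ext (fun a => ?_) fun m => ?_
    all_goals
      simp only [RingHom.comp_apply, Φ_single, RingHom.id_apply]
      erw [map_mul, h1, h2, hmon, AddMonoidAlgebra.single_mul_single]
      simp
  have hΦΨ : Ψ ≫ CommRingCat.ofHom (Φ M X U) = 𝟙 _ := by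
    refine hpo.hom_ext ?_ ?_
    · ext a
      show Φ M X U (Ψ (resX M X U a)) = resX M X U a
      rw [h1, Φ_single]
      have : mon.{u} M 0 = 1 := map_one (monHom.{u} M)
      rw [this, map_one, mul_one]
    · rw [← cancel_epi (Scheme.ΓSpecIso (Lring.{u} M)).inv]
      ext1
      refine (RingHom.cancel_right (f := (ULift.ringEquiv.{0, u} (R := AddMonoidAlgebra ℤ M)).symm.toRingHom)
        (ULift.ringEquiv (R := AddMonoidAlgebra ℤ M)).symm.surjective).1 ?_
      refine AddMonoidAlgebra.ringHom_ext' (RingHom.ext_int _ _) (MonoidHom.ext fun m => ?_)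
      show Φ M X U (Ψ (resT M X U (mon M m.toAdd))) = resT M X U (mon M m.toAdd)
      rw [h2, hmon, Φ_single, map_one, one_mul]
  constructor
  · intro x y hxy
    have hx := RingHom.congr_fun hΨΦ x
    have hy := RingHom.congr_fun hΨΦ y
    simp only [RingHom.comp_apply, RingHom.id_apply] at hx hy
    rw [← hx, hxy, hy]
  · intro x
    exact ⟨Ψ x, congrArg (fun φ => φ.hom x) hΦΨ⟩

end Groth.Agent.TorusUnits

namespace Groth.Agent.TorusUnits

variable (M : Type) [AddCommMonoid M] (X : Scheme.{u})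

theorem Φ_res {U U' : X.Opens} (h : U' ≤ U) (f : AddMonoidAlgebra Γ(X, U) M) :
    (X ⨯ T.{u} M).presheaf.map (homOfLE (Scheme.Hom.preimage_mono _ h : W M X U' ≤ W M X U)).op (Φ M X U f) =
      Φ M X U' (AddMonoidAlgebra.mapRingHom M (X.presheaf.map (homOfLE h).op).hom f) := by
  suffices hh : ((X ⨯ T.{u} M).presheaf.map (homOfLE (Scheme.Hom.preimage_mono _ h : W M X U' ≤ W M X U)).op).hom.comp (Φ M X U) =
      (Φ M X U').comp (AddMonoidAlgebra.mapRingHom M (X.presheaf.map (homOfLE h).op).hom) from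
    RingHom.congr_fun hh f
  refine AddMonoidAlgebra.ringHom_ext (fun a => ?_) fun m => ?_
  all_goals
    simp only [RingHom.comp_apply, AddMonoidAlgebra.mapRingHom_single, Φ_single, map_one, one_mul,
      map_mul]
  · congr 1
    · rw [← CommRingCat.comp_apply, ← CommRingCat.comp_apply, Scheme.Hom.map_appLE, Scheme.Hom.appLE_map]
    · rw [← CommRingCat.comp_apply, Scheme.Hom.appLE_map]
  · rw [← CommRingCat.comp_apply, Scheme.Hom.appLE_map]

/-- augmentation -/
noncomputable def aug : Lring.{u} M ⟶ Γ(X, ⊤) :=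
  CommRingCat.ofHom ((Int.castRingHom _).comp
    ((AddMonoidAlgebra.liftNCRingHom (RingHom.id ℤ) (1 : Multiplicative M →* ℤ) fun _ _ => Commute.all _ _).comp
      (ULift.ringEquiv (R := AddMonoidAlgebra ℤ M)).toRingHom))

/-- unit section -/
noncomputable def ε : X ⟶ X ⨯ T.{u} M := prod.lift (𝟙 X) (X.toSpecΓ ≫ Spec.map (aug M X))

theorem ε_resX (U : X.Opens) (h : U ≤ (ε M X) ⁻¹ᵁ W M X U) (a : Γ(X, U)) :
    (ε M X).appLE (W M X U) U h (resX M X U a) = a := by
  rw [← CommRingCat.comp_apply, Scheme.Hom.appLE_comp_appLE]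
  have : ε M X ≫ prod.fst = 𝟙 X := prod.lift_fst _ _
  simp only [this]
  simp [Scheme.Hom.appLE]
  exact congr($(X.presheaf.map_id (op U)) a)

theorem ε_mon (m : M) : (ε M X).appTop ((prod.snd : X ⨯ T.{u} M ⟶ T.{u} M).appTop (mon M m)) = 1 := by
  rw [← CommRingCat.comp_apply, ← Scheme.Hom.comp_appTop]
  have : ε M X ≫ prod.snd = X.toSpecΓ ≫ Spec.map (aug M X) := prod.lift_snd _ _
  rw [this, Scheme.Hom.comp_appTop, Scheme.toSpecΓ_appTop, mon, ← CommRingCat.comp_apply,
    ← Category.assoc, ← Scheme.ΓSpecIso_inv_naturality, Category.assoc, Iso.inv_hom_id, Category.comp_id]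
  simp [aug, ULift.ringEquiv]

end Groth.Agent.TorusUnits
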